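import Mathlib
import Cfsg.Agent.Lib.Helper81.CS3.Defs

/-!
# CS3 (S4284), part [GOOD]: a top-level cut into three theorems, with compiled assembly

* `PkgGAb` (G1 + G2 + G3): the centralizer of a good element is abelian;
* `PkgG5`: `m` a prime power, `C(a)` abelian for a good `a`  ⟹ `HasQ`;
* `PkgG6`: `m` not a prime power, `C(a)` abelian for a good `a` ⟹ `HasQ`.
-/

set_option autoImplicit false

namespace Cfsg.Agent.Lib.Helper71.CS3

open Cfsg.Agent.Lib.Helper81.CS3

universe u

/-- [GAB] (G1 + G2 + G3) the centralizer of a good element is abelian. -/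
def PkgGAb : Prop :=
  ∀ {G : Type u} [Group G] [Finite G] (m n : ℕ), Hyp G m n → ∀ a : G, IsGood m a →
    ∀ x ∈ Subgroup.centralizer ({a} : Set G), ∀ y ∈ Subgroup.centralizer ({a} : Set G),
      x * y = y * x

/-- [G5] `m` a prime power and a good element with abelian centralizer: `HasQ`. -/
def PkgG5 : Prop :=
  ∀ {G : Type u} [Group G] [Finite G] (m n : ℕ), Hyp G m n → ∀ a : G, IsGood m a →
    (∀ x ∈ Subgroup.centralizer ({a} : Set G), ∀ y ∈ Subgroup.centralizer ({a} : Set G),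
      x * y = y * x) →
    (∃ s j : ℕ, s.Prime ∧ m = s ^ j) → HasQ G m n

/-- [G6] `m` not a prime power and a good element with abelian centralizer: `HasQ`. -/
def PkgG6 : Prop :=
  ∀ {G : Type u} [Group G] [Finite G] (m n : ℕ), Hyp G m n → ∀ a : G, IsGood m a →
    (∀ x ∈ Subgroup.centralizer ({a} : Set G), ∀ y ∈ Subgroup.centralizer ({a} : Set G),
      x * y = y * x) →
    (¬ ∃ s j : ℕ, s.Prime ∧ m = s ^ j) → HasQ G m n

theorem pkgGood_of (hAb : PkgGAb.{u}) (h5 : PkgG5.{u}) (h6 : PkgG6.{u}) : PkgGood.{u} := by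
  intro G _ _ m n hyp hex
  obtain ⟨a, ha⟩ := hex
  have hab := hAb m n hyp a ha
  by_cases hpp : ∃ s j : ℕ, s.Prime ∧ m = s ^ j
  · exact h5 m n hyp a ha hab hpp
  · exact h6 m n hyp a ha hab hpp

end Cfsg.Agent.Lib.Helper71.CS3
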